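import Cfsg.Agent.Lib.GeomClasses.OrthPair
import Cfsg.Agent.Lib.GeomClasses.OrthSubspace

/-!
Quadratic forms with a complex structure `J` in dimension at least six, adapted from `GeomClasses.OrthCplx`:
singular vectors with prescribed pairings under the weakest dimension hypotheses.
-/

set_option autoImplicit false
set_option linter.unusedSectionVars false

namespace CfsgLib.SympUnitLow

open Matrix QuadraticMap CfsgLib.Orth CfsgLib.Maximal.TensorTools CfsgLib.GeomClasses

variable {ι : Type} [Fintype ι] [DecidableEq ι] {F : Type*} [Field F]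
  {q : QuadraticForm F (ι → F)} {J : (ι → F) →ₗ[F] (ι → F)} {α c : F}

/-- `J` generates a quadratic field of similarities which is not self-adjoint. -/
structure Cplx (q : QuadraticForm F (ι → F)) (J : (ι → F) →ₗ[F] (ι → F)) (α c : F) : Prop where
  nondeg : q.polarBilin.Nondegenerate
  card : 6 ≤ Fintype.card ι
  sq : ∀ x, J (J x) = α • J x - c • x
  adj : ∀ x y, polar q (J x) y = α * polar q x y - polar q x (J y)
  qJ : ∀ x, q (J x) = c * q x
  self_J : ∀ x, polar q x (J x) = α * q x
  irred : ∀ a b : F, a * a + α * a * b + c * b * b = 0 → a = 0 ∧ b = 0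

/-- `W` is closed under `J`. -/
def JInv (J : (ι → F) →ₗ[F] (ι → F)) (W : Submodule F (ι → F)) : Prop := ∀ x ∈ W, J x ∈ W

/-- The `J`-span of the vectors. -/
def jspan {k : ℕ} (J : (ι → F) →ₗ[F] (ι → F)) (v : Fin k → ι → F) : Submodule F (ι → F) :=
  Submodule.span F (Set.range (Sum.elim v (fun i => J (v i))))

theorem mem_jspan {k : ℕ} (v : Fin k → ι → F) (i : Fin k) : v i ∈ jspan J v :=
  Submodule.subset_span ⟨.inl i, rfl⟩

theorem map_mem_jspan {k : ℕ} (v : Fin k → ι → F) (i : Fin k) : J (v i) ∈ jspan J v :=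
  Submodule.subset_span ⟨.inr i, rfl⟩

theorem finrank_jspan {k : ℕ} (v : Fin k → ι → F) : Module.finrank F (jspan J v) ≤ 2 * k := by
  refine (finrank_range_le_card (R := F) _).trans ?_
  simp [two_mul]

section

variable (C : Cplx q J α c)
include C

theorem jinv_jspan {k : ℕ} (v : Fin k → ι → F) : JInv J (jspan J v) := by
  intro x hx
  induction hx using Submodule.span_induction with
  | mem x hx =>
    rcases hx with ⟨i | i, rfl⟩
    · exact map_mem_jspan v i
    · show J (J (v i)) ∈ _
      rw [C.sq]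
      exact Submodule.sub_mem _ (Submodule.smul_mem _ _ (map_mem_jspan v i))
        (Submodule.smul_mem _ _ (mem_jspan v i))
  | zero => rw [map_zero]; exact Submodule.zero_mem _
  | add x y _ _ hx hy => rw [map_add]; exact Submodule.add_mem _ hx hy
  | smul a x _ hx => rw [map_smul]; exact Submodule.smul_mem _ _ hx

theorem c_ne : c ≠ 0 := fun h => one_ne_zero (C.irred 0 1 (by rw [h]; ring)).2

theorem polar_J_right (x y : ι → F) : polar q x (J y) = α * polar q x y - polar q (J x) y := by
  rw [C.adj]; ring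

theorem polar_JJ (x y : ι → F) : polar q (J x) (J y) = c * polar q x y := by
  simp only [QuadraticMap.polar, ← map_add, C.qJ]
  ring

theorem polar_J_self (x : ι → F) : polar q (J x) x = α * q x := by
  rw [polar_comm]; exact C.self_J x

theorem q_comb (x : ι → F) (a b : F) : q (a • x + b • J x) = (a * a + α * a * b + c * b * b) * q x := by
  rw [QuadraticMap.map_add ⇑q, QuadraticMap.map_smul, QuadraticMap.map_smul, C.qJ, polar_smul_left,
    polar_smul_right, C.self_J]
  simp only [smul_eq_mul]
  ring

/-- A `J`-invariant subspace not containing `x` meets the line `F(J) x` trivially. -/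
theorem coeff_zero {W : Submodule F (ι → F)} (hW : JInv J W) {x : ι → F} (hx : x ∉ W) {a b : F}
    (h : a • x + b • J x ∈ W) : a = 0 ∧ b = 0 := by
  refine C.irred a b ?_
  by_contra hN
  apply hx
  refine (Submodule.smul_mem_iff W hN).1 ?_
  have h1 := W.sub_mem (W.smul_mem (a + α * b) h) (W.smul_mem b (hW _ h))
  rw [map_add, map_smul, map_smul, C.sq] at h1
  convert h1 using 1
  module

theorem indep_zero {x : ι → F} (hx : x ≠ 0) {a b : F} (h : a • x + b • J x = 0) : a = 0 ∧ b = 0 :=
  coeff_zero C (W := ⊥) (fun y hy => by simp_all) (by simpa using hx) (by simpa using h)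

theorem J_notMem {W : Submodule F (ι → F)} (hW : JInv J W) {x : ι → F} (hx : x ∉ W) : J x ∉ W := fun h =>
  one_ne_zero (coeff_zero C hW hx (a := 0) (b := 1) (by simpa using h)).2

theorem jinv_orth {W : Submodule F (ι → F)} (hW : JInv J W) : JInv J (OrthTools.orth q W) := by
  intro x hx
  refine OrthTools.mem_orth.2 fun y hy => ?_
  rw [polar_J_right C, OrthTools.mem_orth.1 hx y hy, OrthTools.mem_orth.1 hx _ (hW y hy)]
  ring

variable [Fintype F]

theorem norm_surjective (t : F) : ∃ a b : F, a * a + α * a * b + c * b * b = t := by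
  classical
  by_cases h2 : (2 : F) = 0
  · haveI : CharP F 2 := CharTwo.of_one_ne_zero_of_two_eq_zero one_ne_zero h2
    obtain ⟨a, ha⟩ := FiniteField.isSquare_of_char_two (ringChar.eq F 2) t
    exact ⟨a, 0, by rw [ha]; ring⟩
  · have h4 : (4 : F) ≠ 0 := by rw [show (4 : F) = 2 * 2 by norm_num]; exact mul_ne_zero h2 h2
    have hd : c - α * α / 4 ≠ 0 := by
      intro h
      have := C.irred (-α) 2 (by field_simp at h; linear_combination h)
      exact h2 this.2
    obtain ⟨x, y, hxy⟩ := CfsgLib.Orth.exists_binary h2 one_ne_zero hd t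
    exact ⟨x - α * y / 2, y, by rw [← hxy, show (4 : F) = 2 * 2 by norm_num]; field_simp; ring⟩

theorem orth_not_le {W : Submodule F (ι → F)} (hW4 : 2 * Module.finrank F W < Fintype.card ι) : ¬ OrthTools.orth q W ≤ W := by
  intro h
  have h1 := Submodule.finrank_mono h
  rw [OrthTools.finrank_orth C.nondeg] at h1
  omega

theorem exists_value_ne {W : Submodule F (ι → F)} (hW : ¬ OrthTools.orth q W ≤ W) :
    ∃ z ∈ OrthTools.orth q W, q z ≠ 0 := by
  by_contra h
  push Not at h
  apply hW
  intro x hx
  rw [← LinearMap.BilinForm.orthogonal_orthogonal C.nondeg (polarBilin_isRefl C.nondeg) W]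
  refine LinearMap.BilinForm.mem_orthogonal_iff.2 fun y hy => ?_
  show polar q y x = 0
  rw [QuadraticMap.polar, h _ (Submodule.add_mem _ hy hx), h y hy, h x hx, sub_zero, sub_zero]

/-- A singular vector with the same pairings with `W` as `v₀`. -/
theorem exists_singular_eq {W : Submodule F (ι → F)} (hW : JInv J W) (hW6 : ¬ OrthTools.orth q W ≤ W)
    (v₀ : ι → F) : ∃ v, q v = 0 ∧ ∀ w ∈ W, polar q w v = polar q w v₀ := by
  obtain ⟨z, hz, hqz⟩ := exists_value_ne C hW6
  have hJz := jinv_orth C hW z hz
  have hd : 4 * c - α * α ≠ 0 := by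
    intro h
    have h2 : (2 : F) = 0 := (C.irred (-α) 2 (by linear_combination h)).2
    haveI : CharP F 2 := CharTwo.of_one_ne_zero_of_two_eq_zero one_ne_zero h2
    obtain ⟨s, hs⟩ := FiniteField.isSquare_of_char_two (ringChar.eq F 2) c
    have hα : α = 0 := mul_self_eq_zero.1 (by linear_combination -h + 2 * c * h2)
    exact one_ne_zero (C.irred s 1 (by rw [hα, hs]; linear_combination (s * s) * h2)).2
  set D := q z * (4 * c - α * α) with hD
  have hD0 : D ≠ 0 := mul_ne_zero hqz hd
  set A := polar q v₀ z with hA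
  set B := polar q v₀ (J z) with hB
  set a := (α * B - 2 * c * A) / D with ha
  set b := (α * A - 2 * B) / D with hb
  set v₁ := v₀ + (a • z + b • J z) with hv₁
  have e1 : polar q v₁ z = 0 := by
    rw [hv₁, polar_add_left, polar_add_left, polar_smul_left, polar_smul_left, polar_self', polar_J_self C]
    simp only [smul_eq_mul, ← hA, ha, hb]
    field_simp
    rw [hD]
    ring
  have e2 : polar q v₁ (J z) = 0 := by
    rw [hv₁, polar_add_left, polar_add_left, polar_smul_left, polar_smul_left, C.self_J, polar_self', C.qJ]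
    simp only [smul_eq_mul, ← hB, ha, hb]
    field_simp
    rw [hD]
    ring
  obtain ⟨x, y, hxy⟩ := norm_surjective C (-q v₁ / q z)
  refine ⟨v₁ + (x • z + y • J z), ?_, fun w hw => ?_⟩
  · rw [QuadraticMap.map_add ⇑q, q_comb C, hxy, polar_add_right, polar_smul_right, polar_smul_right, e1, e2,
      div_mul_cancel₀ _ hqz]
    simp
  · rw [hv₁, polar_add_right, polar_add_right, polar_add_right, polar_add_right, polar_smul_right,
      polar_smul_right, polar_smul_right, polar_smul_right, OrthTools.mem_orth.1 hz w hw,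
      OrthTools.mem_orth.1 hJz w hw]
    simp

omit [Fintype F] in
theorem exists_pairing {S : Submodule F (ι → F)} {x : ι → F} (hx : x ∉ S) :
    ∃ v, (∀ s ∈ S, polar q s v = 0) ∧ polar q x v ≠ 0 := by
  by_contra hc
  push Not at hc
  apply hx
  rw [← LinearMap.BilinForm.orthogonal_orthogonal C.nondeg (polarBilin_isRefl C.nondeg) S]
  refine LinearMap.BilinForm.mem_orthogonal_iff.2 fun y hy => ?_
  show polar q y x = 0
  rw [polar_comm]
  exact hc y fun s hs => OrthTools.mem_orth.1 hy s hs

omit [Fintype F] in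
theorem exists_pairing_two {S : Submodule F (ι → F)} {x y : ι → F} (hx : x ∉ S) (hy : y ∉ S) :
    ∃ v, (∀ s ∈ S, polar q s v = 0) ∧ polar q x v ≠ 0 ∧ polar q y v ≠ 0 := by
  obtain ⟨v₁, h1, h1x⟩ := exists_pairing C hx
  obtain ⟨v₂, h2, h2y⟩ := exists_pairing C hy
  by_cases h1y : polar q y v₁ = 0
  · by_cases h2x : polar q x v₂ = 0
    · exact ⟨v₁ + v₂, fun s hs => by rw [polar_add_right, h1 s hs, h2 s hs, add_zero],
        by rwa [polar_add_right, h2x, add_zero], by rwa [polar_add_right, h1y, zero_add]⟩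
    · exact ⟨v₂, h2, h2x, h2y⟩
  · exact ⟨v₁, h1, h1x, h1y⟩

/-- A singular vector orthogonal to `W` and outside `W`. -/
theorem exists_link (hn : 10 ≤ Fintype.card ι) {W : Submodule F (ι → F)} (hW4 : Module.finrank F W ≤ 4)
    (hni : Module.finrank F W ≤ 3 ∨ ¬ W ≤ OrthTools.orth q W) :
    ∃ w, w ∈ OrthTools.orth q W ∧ w ∉ W ∧ q w = 0 := by
  obtain ⟨X, hX⟩ := (W.comap (OrthTools.orth q W).subtype).exists_isCompl
  have h1 := Submodule.finrank_add_eq_of_isCompl hX
  have h2 : Module.finrank F ↥(W.comap (OrthTools.orth q W).subtype) ≤ Module.finrank F W := by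
    rw [← Submodule.finrank_map_subtype_eq]
    exact Submodule.finrank_mono (Submodule.map_comap_le _ _)
  have h5 : Module.finrank F ↥(W.comap (OrthTools.orth q W).subtype) ≤ 3 := by
    rcases hni with h | h
    · omega
    · rw [← Submodule.finrank_map_subtype_eq, Submodule.map_comap_subtype]
      have := Submodule.finrank_lt_finrank_of_lt (show OrthTools.orth q W ⊓ W < W from
        lt_of_le_of_ne inf_le_right fun e => h (e.ge.trans inf_le_left))
      omega
  have h3 := OrthTools.finrank_orth C.nondeg W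
  obtain ⟨w, hw, hw0, hqw⟩ := OrthTools.exists_singular C.nondeg (X.map (OrthTools.orth q W).subtype)
    (by rw [Submodule.finrank_map_subtype_eq]; omega)
  obtain ⟨⟨w', hw'⟩, hwX, rfl⟩ := hw
  refine ⟨w', hw', fun h => hw0 ?_, hqw⟩
  have := Submodule.disjoint_def.1 hX.disjoint ⟨w', hw'⟩ (by simpa using h) hwX
  simpa using congrArg Subtype.val this

omit [Fintype F] in
theorem indep_link {u w : ι → F} {W : Submodule F (ι → F)} (hu : u ∈ W) (hW : JInv J W) (hw : w ∉ W)
    {x : ι → F} (hxW : x ∈ W) (hx : x ∈ jspan J ![u, w]) : x ∈ jspan J ![u] := by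
  obtain ⟨d, hd⟩ := (Submodule.mem_span_range_iff_exists_fun F).1 hx
  simp only [Fintype.sum_sum_type, Fin.sum_univ_two, Sum.elim_inl, Sum.elim_inr, Matrix.cons_val_zero,
    Matrix.cons_val_one] at hd
  have h : d (.inl 1) • w + d (.inr 1) • J w ∈ W := by
    have := W.sub_mem hxW (W.add_mem (W.smul_mem (d (.inl 0)) hu) (W.smul_mem (d (.inr 0)) (hW u hu)))
    rw [← hd] at this
    convert this using 1
    module
  obtain ⟨e1, e2⟩ := coeff_zero C hW hw h
  rw [← hd, e1, e2, zero_smul, zero_smul, add_zero, add_zero]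
  exact Submodule.add_mem _ (Submodule.smul_mem _ _ (mem_jspan ![u] 0)) (Submodule.smul_mem _ _ (map_mem_jspan ![u] 0))

end

end CfsgLib.SympUnitLow
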