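import Cfsg.Agent.Lib.SympUnitLow.Field

/-!
Symplectic space of dimension at least six with a skew-adjoint complex structure: an overgroup of the unitary group
containing one more pair of commuting transvections contains every transvection.
-/

set_option autoImplicit false
set_option linter.unusedSectionVars false
set_option linter.unusedSimpArgs false

namespace CfsgLib.SympUnitLow

open Matrix QuadraticMap CfsgLib.GeomClasses
open scoped MatrixGroups

variable {ι : Type} [Fintype ι] [DecidableEq ι] {F : Type*} [Field F] [Fintype F]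
  {f : (ι → F) → (ι → F) → F} {q : QuadraticForm F (ι → F)} {δ : (ι → F) →ₗ[F] (ι → F)} {ν : F}

section

variable (S : Setup f q δ ν)
include S

theorem two_ne : (2 : F) ≠ 0 := fun h => by
  haveI : CharP F 2 := CharTwo.of_one_ne_zero_of_two_eq_zero one_ne_zero h
  exact S.nonsquare (FiniteField.isSquare_of_char_two (ringChar.eq F 2) ν)

theorem mem_one {x z : ι → F} (h : z ∈ jspan δ ![x]) : ∃ c d : F, c • x + d • δ x = z := by
  obtain ⟨e, he⟩ := (Submodule.mem_span_range_iff_exists_fun F).1 h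
  simp only [Fintype.sum_sum_type, Fin.sum_univ_one, Sum.elim_inl, Sum.elim_inr, Matrix.cons_val_zero] at he
  exact ⟨_, _, he⟩

theorem jspan_le {x : ι → F} {W : Submodule F (ι → F)} (hW : JInv δ W) (hx : x ∈ W) : jspan δ ![x] ≤ W :=
  Submodule.span_le.2 (by
    rintro _ ⟨i | i, rfl⟩ <;> fin_cases i
    · exact hx
    · exact hW x hx)

theorem finrank_line {x : ι → F} (hx : x ≠ 0) : Module.finrank F (jspan δ ![x]) = 2 := by
  refine (finrank_span_eq_card ?_).trans (by simp)
  rw [Fintype.linearIndependent_iff]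
  intro g hg
  simp only [Fintype.sum_sum_type, Fin.sum_univ_one, Sum.elim_inl, Sum.elim_inr, Matrix.cons_val_zero] at hg
  obtain ⟨e1, e2⟩ := indep_zero S.cplx hx hg
  rintro (i | i) <;> fin_cases i <;> assumption

theorem finrank_lines {x y : ι → F} (hx : x ≠ 0) (hy : y ∉ jspan δ ![x]) :
    Module.finrank F ↥(jspan δ ![x] ⊔ jspan δ ![y]) = 4 := by
  have h := Submodule.finrank_sup_add_finrank_inf_eq (jspan δ ![x]) (jspan δ ![y])
  have hb : jspan δ ![x] ⊓ jspan δ ![y] = ⊥ := (Submodule.eq_bot_iff _).2 fun z hz => by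
    obtain ⟨c, d, rfl⟩ := mem_one S hz.2
    obtain ⟨rfl, rfl⟩ := coeff_zero S.cplx (jinv_jspan S.cplx ![x]) hy hz.1
    simp
  rw [hb, finrank_bot, finrank_line S hx, finrank_line S (x := y) (fun e => hy (by rw [e]; exact Submodule.zero_mem _))] at h
  omega

theorem self_polar {x : ι → F} (hx : q x = 0) :
    polar q x x = 0 ∧ polar q (δ x) x = 0 ∧ polar q x (δ x) = 0 ∧ polar q (δ x) (δ x) = 0 := by
  refine ⟨?_, ?_, ?_, ?_⟩
  · rw [polar_self, hx, smul_zero]
  · rw [polar_J_self S.cplx, hx, mul_zero]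
  · rw [S.cplx.self_J, hx, mul_zero]
  · rw [polar_self, q_d S hx, smul_zero]

theorem sep_six (hn : Fintype.card ι = 6) (w u : ι → F) (hw : q w = 0) (hu : q u = 0)
    (huw : u ∉ jspan δ ![w]) (hw0 : w ≠ 0) :
    ¬ OrthTools.orth q (jspan δ ![w] ⊔ jspan δ ![u]) ≤ jspan δ ![w] ⊔ jspan δ ![u] := by
  intro hle
  have hdim := finrank_lines S hw0 huw
  set W := jspan δ ![w] ⊔ jspan δ ![u] with hW
  have hor := OrthTools.finrank_orth S.cplx.nondeg W
  rw [hdim, hn] at hor
  obtain ⟨r, hr, hr0⟩ := Submodule.exists_mem_ne_zero_of_ne_bot (p := OrthTools.orth q W) fun h => by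
    rw [h, finrank_bot] at hor; omega
  obtain ⟨p, hp, s, hs, hps⟩ := Submodule.mem_sup.1 (hle hr)
  obtain ⟨d1, d2, rfl⟩ := mem_one S hp
  obtain ⟨e1, e2, rfl⟩ := mem_one S hs
  obtain ⟨w1, w2, w3, w4⟩ := self_polar S hw
  obtain ⟨u1, u2, u3, u4⟩ := self_polar S hu
  have k1 := OrthTools.mem_orth.1 hr w (Submodule.mem_sup_left (mem_jspan ![w] 0))
  have k2 := OrthTools.mem_orth.1 hr (δ w) (Submodule.mem_sup_left (map_mem_jspan ![w] 0))
  have k3 := OrthTools.mem_orth.1 hr u (Submodule.mem_sup_right (mem_jspan ![u] 0))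
  have k4 := OrthTools.mem_orth.1 hr (δ u) (Submodule.mem_sup_right (map_mem_jspan ![u] 0))
  set P := polar q w u with hP
  set P' := polar q w (δ u) with hP'
  have x1 : polar q (δ w) u = -P' := by rw [hP', polar_J_right S.cplx]; simp
  have x2 : polar q (δ w) (δ u) = -(ν * P) := by rw [polar_JJ S.cplx, hP]; ring
  have x3 : polar q u w = P := polar_comm (⇑q) u w
  have x4 : polar q u (δ w) = -P' := (polar_comm (⇑q) u (δ w)).trans x1
  have x5 : polar q (δ u) w = P' := polar_comm (⇑q) (δ u) w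
  have x6 : polar q (δ u) (δ w) = -(ν * P) := (polar_comm (⇑q) (δ u) (δ w)).trans x2
  simp only [← hps, polar_add_right, polar_smul_right, smul_eq_mul, w1, w2, w3, w4, u1, u2, u3, u4, ← hP, ← hP',
    x1, x2, x3, x4, x5, x6] at k1 k2 k3 k4
  by_cases hd : P' * P' - ν * P * P = 0
  · have hP0 : P = 0 ∧ P' = 0 := by
      by_cases h0 : P = 0
      · exact ⟨h0, by rw [h0] at hd; simpa using hd⟩
      · exact absurd ⟨P' / P, by field_simp; linear_combination -hd⟩ S.nonsquare
    obtain ⟨n1, n2⟩ := hP0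
    have hTI : W ≤ OrthTools.orth q W := by
      intro z hz
      refine OrthTools.mem_orth.2 fun y hy => ?_
      obtain ⟨a, ha, b, hb, rfl⟩ := Submodule.mem_sup.1 hz
      obtain ⟨a1, a2, rfl⟩ := mem_one S ha
      obtain ⟨b1, b2, rfl⟩ := mem_one S hb
      obtain ⟨c, hc, d, hd', rfl⟩ := Submodule.mem_sup.1 hy
      obtain ⟨c1, c2, rfl⟩ := mem_one S hc
      obtain ⟨g1, g2, rfl⟩ := mem_one S hd'
      simp [polar_add_left, polar_add_right, polar_smul_left, polar_smul_right, w1, w2, w3, w4, u1, u2, u3, u4,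
        n1, n2, x1, x2, x3, x4, x5, x6, ← hP, ← hP']
    have := Submodule.finrank_mono hTI
    rw [hdim, OrthTools.finrank_orth S.cplx.nondeg W, hdim, hn] at this
    omega
  · have ee1 : (P' * P' - ν * P * P) * e1 = 0 := by linear_combination (-ν * P) * k1 - P' * k2
    have ee2 : (P' * P' - ν * P * P) * e2 = 0 := by linear_combination P' * k1 + P * k2
    have dd1 : (P' * P' - ν * P * P) * d1 = 0 := by linear_combination (-ν * P) * k3 + P' * k4
    have dd2 : (P' * P' - ν * P * P) * d2 = 0 := by linear_combination -P' * k3 + P * k4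
    apply hr0
    rw [← hps, (mul_eq_zero.1 ee1).resolve_left hd, (mul_eq_zero.1 ee2).resolve_left hd,
      (mul_eq_zero.1 dd1).resolve_left hd, (mul_eq_zero.1 dd2).resolve_left hd]
    simp

/-- Two singular lines span a subspace which is not its orthogonal's overspace, or equals its orthogonal. -/
theorem sep_low (hn : Fintype.card ι = 6 ∨ 8 ≤ Fintype.card ι) (w u : ι → F) (hw : q w = 0) (hu : q u = 0)
    (huw : u ∉ jspan δ ![w]) (hw0 : w ≠ 0) :
    ¬ OrthTools.orth q (jspan δ ![w] ⊔ jspan δ ![u]) ≤ jspan δ ![w] ⊔ jspan δ ![u] ∨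
      OrthTools.orth q (jspan δ ![w] ⊔ jspan δ ![u]) = jspan δ ![w] ⊔ jspan δ ![u] := by
  rcases hn with hn | hn
  · exact Or.inl (sep_six S hn w u hw hu huw hw0)
  by_cases hle : OrthTools.orth q (jspan δ ![w] ⊔ jspan δ ![u]) ≤ jspan δ ![w] ⊔ jspan δ ![u]
  · refine Or.inr (Submodule.eq_of_le_of_finrank_le hle ?_)
    rw [OrthTools.finrank_orth S.cplx.nondeg, finrank_lines S hw0 huw]
    omega
  · exact Or.inl hle

/-- `exp` of a nilpotent skew map. -/
theorem exists_exp {η : (ι → F) →ₗ[F] (ι → F)} (h3 : ∀ x, η (η (η x)) = 0)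
    (hs : ∀ x z, f (η x) z = - f x (η z)) (hc : ∀ x, η (δ x) = δ (η x)) :
    ∃ g : GL ι F, Symp.IsIsometry f g ∧ (∀ x, (g : Matrix ι ι F) *ᵥ δ x = δ ((g : Matrix ι ι F) *ᵥ x)) ∧
      ∀ x, (g : Matrix ι ι F) *ᵥ x = x + η x + (2 : F)⁻¹ • η (η x) := by
  have h2 := two_ne S
  have hu : ((2 : F)⁻¹ + (2 : F)⁻¹) = 1 := by field_simp; norm_num
  let A : Matrix ι ι F := LinearMap.toMatrix' (LinearMap.id + η + (2 : F)⁻¹ • η.comp η)
  let B : Matrix ι ι F := LinearMap.toMatrix' (LinearMap.id - η + (2 : F)⁻¹ • η.comp η)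
  have hA : ∀ x, A *ᵥ x = x + η x + (2 : F)⁻¹ • η (η x) := fun x => by
    simp [A, add_mulVec, smul_mulVec, LinearMap.toMatrix'_mulVec]
  have hB : ∀ x, B *ᵥ x = x - η x + (2 : F)⁻¹ • η (η x) := fun x => by
    simp [B, add_mulVec, sub_mulVec, smul_mulVec, LinearMap.toMatrix'_mulVec]
  let g : GL ι F := ⟨A, B,
    Matrix.ext_of_mulVec_single fun i => by
      rw [← mulVec_mulVec, one_mulVec, hB, hA]
      simp only [map_add, map_sub, map_smul, h3, smul_zero, map_zero, sub_zero, add_zero]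
      linear_combination (norm := module) (congrArg (fun c : F => c • η (η (Pi.single i 1))) hu),
    Matrix.ext_of_mulVec_single fun i => by
      rw [← mulVec_mulVec, one_mulVec, hA, hB]
      simp only [map_add, map_sub, map_smul, h3, smul_zero, map_zero, sub_zero, add_zero]
      linear_combination (norm := module) (congrArg (fun c : F => c • η (η (Pi.single i 1))) hu)⟩
  have hf := S.symp
  refine ⟨g, fun x z => ?_, fun x => ?_, hA⟩
  · show f (A *ᵥ x) (A *ᵥ z) = f x z
    rw [hA, hA]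
    simp only [Symp.add_left hf, Symp.add_right hf, Symp.smul_left hf, Symp.smul_right hf, hs, h3,
      map_zero, Symp.zero_right hf, neg_neg, neg_zero, mul_zero, add_zero]
    linear_combination (f x (η (η z))) * hu
  · show A *ᵥ δ x = δ (A *ᵥ x)
    rw [hA, hA, map_add, map_add, map_smul, hc, hc]

variable {M : Subgroup (GL ι F)} (hX : ∀ v k, q v = 0 → rootU f δ ν v k ∈ M)
  (hU : ∀ g : GL ι F, Symp.IsIsometry f g →
    (∀ x, (g : Matrix ι ι F) *ᵥ δ x = δ ((g : Matrix ι ι F) *ᵥ x)) → g ∈ M)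
include hX hU

theorem exists_transvection_six (hn : 6 ≤ Fintype.card ι) {a b : ι → F} {α β : F}
    (he : formTv f a α * formTv f b β ∈ M) (hab : f a b = 0) (hα : α ≠ 0) (hC : ∀ μ, α * (μ * μ) + β ≠ 0)
    (ha : a ∉ jspan δ ![b]) (hb : q b ≠ 0) :
    ∃ w γ, q w = 0 ∧ w ≠ 0 ∧ γ ≠ 0 ∧ formTv f w γ ∈ M := by
  have C := S.cplx
  have hf := S.symp
  have hν := nu_ne S
  have h2 := two_ne S
  have hb0 : b ≠ 0 := fun e => hb (by rw [e, map_zero])
  set P := jspan δ ![b] ⊔ jspan δ ![a] with hP
  have hPj : JInv δ P := jinv_sup (jinv_jspan C ![b]) (jinv_jspan C ![a])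
  have hbP : b ∈ P := Submodule.mem_sup_left (mem_jspan ![b] 0)
  have hdbP : δ b ∈ P := Submodule.mem_sup_left (map_mem_jspan ![b] 0)
  have haP : a ∈ P := Submodule.mem_sup_right (mem_jspan ![a] 0)
  have hbb : f b (δ b) ≠ 0 := by
    rw [← S.polar_eq, polar_self, two_smul, ← two_mul]; exact mul_ne_zero h2 hb
  have hfP : ∀ {z}, z ∈ OrthTools.orth q P → ∀ {x}, x ∈ P → f x z = 0 ∧ f x (δ z) = 0 := fun {z} hz {x} hx =>
    ⟨by rw [f_left S, OrthTools.mem_orth.1 hz _ (hPj x hx), mul_zero, neg_zero],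
      by rw [← S.polar_eq, OrthTools.mem_orth.1 hz _ hx]⟩
  by_cases hdeg : ∃ u₀ ∈ P, u₀ ∈ OrthTools.orth q P ∧ u₀ ≠ 0
  · -- a degenerate plane
    obtain ⟨u₀, hu₀, hu₀o, hu00⟩ := hdeg
    have hUj : JInv δ (P ⊓ OrthTools.orth q P) := fun x hx => ⟨hPj x hx.1, jinv_orth C hPj x hx.2⟩
    set W := jspan δ ![b] ⊔ (P ⊓ OrthTools.orth q P) with hW
    have haW : a ∈ W := by
      by_contra haW
      obtain ⟨B, hB, X, hXa, hsum⟩ := Submodule.mem_sup.1 hu₀
      obtain ⟨c, d, rfl⟩ := mem_one S hXa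
      have hin : c • a + d • δ a ∈ W := by
        rw [show c • a + d • δ a = u₀ - B by rw [← hsum]; abel]
        exact W.sub_mem (Submodule.mem_sup_right ⟨hu₀, hu₀o⟩) (Submodule.mem_sup_left hB)
      obtain ⟨rfl, rfl⟩ := coeff_zero C (jinv_sup (jinv_jspan C ![b]) hUj) haW hin
      obtain ⟨c1, c2, rfl⟩ := mem_one S hB
      simp only [zero_smul, add_zero] at hsum
      obtain ⟨k1, k2⟩ := hfP hu₀o hbP
      rw [← hsum, Symp.add_right hf, Symp.smul_right hf, Symp.smul_right hf, hf.alternating] at k1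
      rw [← hsum, map_add, map_smul, map_smul, d_sq S, Symp.add_right hf, Symp.smul_right hf, Symp.smul_right hf,
        Symp.smul_right hf, hf.alternating] at k2
      have hc2 : c2 = 0 := by simpa [hbb] using k1
      have hc1 : c1 = 0 := by simpa [hbb, hc2] using k2
      exact hu00 (by rw [← hsum, hc1, hc2]; simp)
    obtain ⟨B, hB, y, ⟨hyP, hyo⟩, hsum⟩ := Submodule.mem_sup.1 haW
    obtain ⟨μ, s, rfl⟩ := mem_one S hB
    obtain ⟨hby, hbdy⟩ := hfP hyo hbP
    have hyy : f y (δ y) = 0 := (hfP hyo hyP).2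
    have hdd : f (δ b) b = -f b (δ b) := f_skewd S b b
    have hyb : f y b = 0 := by rw [hf.skew, hby, neg_zero]
    have hs : s = 0 := by
      rw [← hsum, Symp.add_left hf, Symp.add_left hf, Symp.smul_left hf, Symp.smul_left hf, hf.alternating, hdd,
        hyb] at hab
      simpa [hbb] using hab
    rw [hs, zero_smul, add_zero] at hsum
    have hy0 : y ≠ 0 := fun e => ha (by
      rw [← hsum, e, add_zero]; exact Submodule.smul_mem _ _ (mem_jspan ![b] 0))
    have hqy : q y = 0 := by
      have := S.polar_eq y y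
      rw [hyy, polar_self, two_smul, ← two_mul] at this
      exact (mul_eq_zero.1 this).resolve_left h2
    have hydy : f (δ y) y = 0 := f_self' S hqy
    have hdyb : f (δ y) b = 0 := by rw [hf.skew, hbdy, neg_zero]
    have hydb : f y (δ b) = 0 := by rw [hf.skew, f_skewd S, hbdy, neg_zero, neg_zero]
    have hdydb : f (δ y) (δ b) = 0 := by rw [f_dd S, hyb, mul_zero, neg_zero]
    let η : (ι → F) →ₗ[F] (ι → F) :=
      { toFun := fun x => f x (δ y) • b - f x y • δ b - f x (δ b) • y + f x b • δ y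
        map_add' := fun x z => by simp only [Symp.add_left hf]; module
        map_smul' := fun c x => by simp only [Symp.smul_left hf, RingHom.id_apply]; module }
    have hη : ∀ x, η x = f x (δ y) • b - f x y • δ b - f x (δ b) • y + f x b • δ y := fun x => rfl
    set p := f b (δ b) with hp
    have hy1 : η y = 0 := by rw [hη, hyy, hydb, hyb, hf.alternating]; simp
    have hb1 : η b = (-p) • y := by rw [hη, hbdy, hby, hf.alternating, ← hp]; module
    have hcomm : ∀ x, η (δ x) = δ (η x) := fun x => by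
      rw [hη, hη, f_dd S, f_dd S, f_skewd S x y, f_skewd S x b, map_add, map_sub, map_sub, map_smul, map_smul,
        map_smul, map_smul, d_sq S, d_sq S]
      module
    have h3 : ∀ x, η (η (η x)) = 0 := fun x => by
      rw [hη x]
      simp only [map_add, map_sub, map_smul, hcomm, hb1, hy1, map_zero, smul_zero, add_zero, sub_zero]
    have hskew : ∀ x z, f (η x) z = -f x (η z) := fun x z => by
      simp only [hη, sub_eq_add_neg, ← neg_smul, Symp.add_left hf, Symp.add_right hf, Symp.smul_left hf,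
        Symp.smul_right hf]
      rw [hf.skew z (δ y), hf.skew z y, hf.skew z (δ b), hf.skew z b]
      ring
    obtain ⟨g₁, i₁, c₁, e₁⟩ := exists_exp S h3 hskew hcomm
    obtain ⟨g₂, i₂, c₂, e₂⟩ := exists_exp S (η := -η) (fun x => by simp [h3])
      (fun x z => by simp [Symp.neg_left hf, Symp.neg_right hf, hskew]) (fun x => by simp [hcomm])
    have hg₁ := hU g₁ i₁ c₁
    have hg₂ := hU g₂ i₂ c₂
    set e := formTv f a α * formTv f b β with he'
    have key : ∀ (g : GL ι F), Symp.IsIsometry f g → g * e * g⁻¹ =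
        formTv f ((g : Matrix ι ι F) *ᵥ a) α * formTv f ((g : Matrix ι ι F) *ᵥ b) β := fun g hg => by
      rw [he', show g * (formTv f a α * formTv f b β) * g⁻¹ =
        (g * formTv f a α * g⁻¹) * (g * formTv f b β * g⁻¹) by group, Symp.conj_formTv hf hg,
        Symp.conj_formTv hf hg]
    have b₁ : (g₁ : Matrix ι ι F) *ᵥ b = b + (-p) • y := by rw [e₁, hb1, map_smul, hy1]; simp
    have b₂ : (g₂ : Matrix ι ι F) *ᵥ b = b + p • y := by
      rw [e₂]; simp [hb1, hy1]
    have a₁ : (g₁ : Matrix ι ι F) *ᵥ a = a + (-(μ * p)) • y := by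
      rw [← hsum, e₁]; simp [hb1, hy1]; module
    have a₂ : (g₂ : Matrix ι ι F) *ᵥ a = a + (μ * p) • y := by
      rw [← hsum, e₂]; simp [hb1, hy1]; module
    refine ⟨y, 2 * (p * p) * (α * (μ * μ) + β), hqy, hy0,
      mul_ne_zero (mul_ne_zero h2 (mul_ne_zero hbb hbb)) (hC μ), ?_⟩
    have h4 := M.mul_mem (M.inv_mem (M.mul_mem he he))
      (M.mul_mem (M.mul_mem (M.mul_mem hg₁ he) (M.inv_mem hg₁)) (M.mul_mem (M.mul_mem hg₂ he) (M.inv_mem hg₂)))
    rw [key g₁ i₁, key g₂ i₂, a₁, a₂, b₁, b₂] at h4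
    convert h4 using 1
    rw [eq_inv_mul_iff_mul_eq, ← hsum]
    refine gl_ext fun x => ?_
    simp only [he', gl_mul_mulVec, Symp.formTv_mulVec hf, ← hsum, Symp.add_left hf, Symp.add_right hf,
      Symp.smul_left hf, Symp.smul_right hf, hf.alternating, hby, hyb, mul_zero, add_zero, zero_add, zero_smul]
    match_scalars <;> ring
  · -- a non-degenerate plane
    push Not at hdeg
    have hne : ¬ OrthTools.orth q P ≤ P := fun hle => by
      have h1 := OrthTools.finrank_orth C.nondeg P
      rw [finrank_lines S hb0 ha] at h1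
      obtain ⟨r, hr, hr0⟩ := Submodule.exists_mem_ne_zero_of_ne_bot (p := OrthTools.orth q P) fun h => by
        rw [h, finrank_bot] at h1; omega
      exact hr0 (hdeg r (hle hr) hr)
    obtain ⟨v, hv, hWv, hav, hadv⟩ := exists_iso S (jinv_jspan C ![b]) ha hne 0 1 0
    obtain ⟨hbv, hbdv⟩ := hWv b (mem_jspan ![b] 0)
    simp only [map_zero, Symp.zero_right hf] at hbv hbdv
    have hv0 : v ≠ 0 := fun e => one_ne_zero (by rw [← hav, e, Symp.zero_right hf])
    have hvP : v ∉ P := by
      intro hmem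
      set W := jspan δ ![b] ⊔ jspan δ ![v] with hW
      have haW : a ∈ W := by
        by_contra haW
        obtain ⟨B, hB, X, hXa, hsum⟩ := Submodule.mem_sup.1 hmem
        obtain ⟨c, d, rfl⟩ := mem_one S hXa
        have hin : c • a + d • δ a ∈ W := by
          rw [show c • a + d • δ a = v - B by rw [← hsum]; abel]
          exact W.sub_mem (Submodule.mem_sup_right (mem_jspan ![v] 0)) (Submodule.mem_sup_left hB)
        obtain ⟨rfl, rfl⟩ := coeff_zero C (jinv_sup (jinv_jspan C ![b]) (jinv_jspan C ![v])) haW hin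
        obtain ⟨c1, c2, rfl⟩ := mem_one S hB
        simp only [zero_smul, add_zero] at hsum
        have k1 := hbv
        have k2 := hbdv
        rw [← hsum, Symp.add_right hf, Symp.smul_right hf, Symp.smul_right hf, hf.alternating] at k1
        rw [← hsum, map_add, map_smul, map_smul, d_sq S, Symp.add_right hf, Symp.smul_right hf,
          Symp.smul_right hf, Symp.smul_right hf, hf.alternating] at k2
        have hc2 : c2 = 0 := by simpa [hbb] using k1
        have hc1 : c1 = 0 := by simpa [hbb, hc2] using k2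
        exact hv0 (by rw [← hsum, hc1, hc2]; simp)
      apply hv0
      refine hdeg v hmem (OrthTools.mem_orth.2 fun x hx => ?_)
      have hle : P ≤ W := sup_le le_sup_left (jspan_le S (jinv_sup (jinv_jspan C ![b]) (jinv_jspan C ![v])) haW)
      obtain ⟨p, hp, r, hr, rfl⟩ := Submodule.mem_sup.1 (hle hx)
      obtain ⟨p1, p2, rfl⟩ := mem_one S hp
      obtain ⟨r1, r2, rfl⟩ := mem_one S hr
      obtain ⟨v1, v2, -, -⟩ := self_polar S hv
      simp only [polar_add_left, polar_smul_left, smul_eq_mul, v1, v2]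
      rw [S.polar_eq b, hbdv, S.polar_eq (δ b), f_dd S, hbv]
      simp
    obtain ⟨z, hzo, z1, z2, hqz⟩ : ∃ z, z ∈ OrthTools.orth q P ∧ f v (δ z) = 1 ∧ f v z = 0 ∧ q z ≠ 0 := by
      obtain ⟨z, hz, z1, z2⟩ := exists_dual S hPj hvP 1 0
      have hzo : z ∈ OrthTools.orth q P := OrthTools.mem_orth.2 hz
      by_contra hc
      push Not at hc
      set Y := OrthTools.orth q (P ⊔ jspan δ ![v]) with hY
      have hYj : JInv δ Y := jinv_orth C (jinv_sup hPj (jinv_jspan C ![v]))
      have hadm : ∀ y ∈ Y, z + y ∈ OrthTools.orth q P ∧ f v (δ (z + y)) = 1 ∧ f v (z + y) = 0 := by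
        intro y hy
        refine ⟨Submodule.add_mem _ hzo (OrthTools.mem_orth.2 fun x hx =>
          OrthTools.mem_orth.1 hy x (Submodule.mem_sup_left hx)), ?_, ?_⟩
        · rw [← S.polar_eq, polar_add_right, OrthTools.mem_orth.1 hy v (Submodule.mem_sup_right (mem_jspan ![v] 0)),
            add_zero, z1]
        · rw [f_left S, polar_add_right,
            OrthTools.mem_orth.1 hy (δ v) (Submodule.mem_sup_right (map_mem_jspan ![v] 0)), add_zero, z2]
          ring
      have hall : ∀ y ∈ Y, q (z + y) = 0 := fun y hy => by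
        obtain ⟨e1, e2, e3⟩ := hadm y hy
        exact hc _ e1 e2 e3
      have hqz : q z = 0 := by simpa using hall 0 Y.zero_mem
      have hpol : ∀ y ∈ Y, q y = 0 ∧ polar q z y = 0 := fun y hy => by
        have e1 := hall y hy
        have e2 := hall (-y) (Y.neg_mem hy)
        rw [QuadraticMap.map_add ⇑q, hqz] at e1 e2
        rw [QuadraticMap.map_neg, polar_neg_right] at e2
        have e3 : 2 * q y = 0 := by linear_combination e1 + e2
        have e4 : q y = 0 := (mul_eq_zero.1 e3).resolve_left h2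
        exact ⟨e4, by linear_combination e1 - e4⟩
      have hz0 : z ≠ 0 := fun e => zero_ne_one (α := F) (by rw [← z1, e, polar_zero_right])
      have hzY : z ∉ Y := fun h => one_ne_zero (α := F) (z1.symm.trans
        (OrthTools.mem_orth.1 h v (Submodule.mem_sup_right (mem_jspan ![v] 0))))
      set X := jspan δ ![z] ⊔ Y with hX'
      have hXle : X ≤ OrthTools.orth q P := sup_le (jspan_le S (jinv_orth C hPj) hzo) fun y hy =>
        OrthTools.mem_orth.2 fun x hx => OrthTools.mem_orth.1 hy x (Submodule.mem_sup_left hx)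
      have hv6 : Module.finrank F ↥(P ⊔ jspan δ ![v]) ≤ 6 := by
        have h1 := Submodule.finrank_add_le_finrank_add_finrank P (jspan δ ![v])
        rw [finrank_lines S hb0 ha, finrank_line S hv0] at h1
        exact h1
      have hXd : Module.finrank F ↥(OrthTools.orth q P) ≤ Module.finrank F X := by
        have h1 := Submodule.finrank_sup_add_finrank_inf_eq (jspan δ ![z]) Y
        have hb' : jspan δ ![z] ⊓ Y = ⊥ := (Submodule.eq_bot_iff _).2 fun x hx => by
          obtain ⟨c, d, rfl⟩ := mem_one S hx.1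
          obtain ⟨rfl, rfl⟩ := coeff_zero C hYj hzY hx.2
          simp
        rw [hb', finrank_bot, finrank_line S hz0, hY, OrthTools.finrank_orth C.nondeg] at h1
        rw [OrthTools.finrank_orth C.nondeg, finrank_lines S hb0 ha, hX', hY]
        omega
      have heq := Submodule.eq_of_le_of_finrank_le hXle hXd
      obtain ⟨x, hx, hqx⟩ := exists_value_ne C hne
      rw [← heq] at hx
      obtain ⟨p, hp, y, hy, rfl⟩ := Submodule.mem_sup.1 hx
      obtain ⟨c, d, rfl⟩ := mem_one S hp
      refine hqx ?_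
      have e5 : polar q (δ z) y = 0 := by
        have e6 : polar q z (δ y) = 0 := (hpol _ (hYj y hy)).2
        have e7 := C.adj z y
        rw [e6] at e7
        simpa using e7
      rw [QuadraticMap.map_add ⇑q, q_comb C, hqz, mul_zero, (hpol y hy).1, polar_add_left, polar_smul_left,
        polar_smul_left, (hpol y hy).2, e5]
      simp
    obtain ⟨b1, b2⟩ := hfP hzo hbP
    obtain ⟨a1, a2⟩ := hfP hzo haP
    set w := z + (-(q z)) • v with hw
    have hqw : q w = 0 := by
      rw [hw, QuadraticMap.map_add ⇑q, QuadraticMap.map_smul, hv, polar_smul_right, polar_comm, S.polar_eq, z1]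
      simp
    have wb : f b w = 0 := by rw [hw, Symp.add_right hf, Symp.smul_right hf, b1, hbv]; simp
    have wdb : f b (δ w) = 0 := by
      rw [hw, map_add, map_smul, Symp.add_right hf, Symp.smul_right hf, b2, hbdv]; simp
    have wa : f a w = -q z := by rw [hw, Symp.add_right hf, Symp.smul_right hf, a1, hav]; simp
    have wda : f a (δ w) = 0 := by
      rw [hw, map_add, map_smul, Symp.add_right hf, Symp.smul_right hf, a2, hadv]; simp
    have wv : f v w = 0 := by rw [hw, Symp.add_right hf, Symp.smul_right hf, z2, hf.alternating]; simp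
    have wdv : f v (δ w) = 1 := by
      rw [hw, map_add, map_smul, Symp.add_right hf, Symp.smul_right hf, z1, f_self S hv]; simp
    have hw0 : w ≠ 0 := fun e => hqz (by rw [← neg_eq_zero, ← wa, e, Symp.zero_right hf])
    obtain ⟨-, he2⟩ := core S hX he hab hα hv hbv hbdv hadv hav
    have k : -q z ≠ 0 := neg_ne_zero.2 hqz
    have h1 := (core S hX (v := (-q z)⁻¹ • w) he hab hα (by rw [QuadraticMap.map_smul, hqw, smul_zero])
      (by rw [Symp.smul_right hf, wb, mul_zero]) (by rw [map_smul, Symp.smul_right hf, wdb, mul_zero])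
      (by rw [map_smul, Symp.smul_right hf, wda, mul_zero])
      (by rw [Symp.smul_right hf, wa, inv_mul_cancel₀ k])).1
    have h2' := (core S hX (v := (-1 : F) • w) he2 (by rw [hf.skew, hbdv, neg_zero])
      (div_ne_zero (inv_ne_zero hα) hν) (by rw [QuadraticMap.map_smul, hqw, smul_zero])
      (by rw [Symp.smul_right hf, wb, mul_zero]) (by rw [map_smul, Symp.smul_right hf, wdb, mul_zero])
      (by rw [map_smul, Symp.smul_right hf, f_dd S, wv]; simp)
      (by rw [Symp.smul_right hf, f_skewd S, wdv]; simp)).1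
    rw [Symp.formTv_smul hf] at h1 h2'
    refine ⟨w, -1 * -1 * (α⁻¹ / ν)⁻¹ - (-q z)⁻¹ * (-q z)⁻¹ * α⁻¹, hqw, hw0, fun h => S.nonsquare ?_, ?_⟩
    · refine ⟨(-q z)⁻¹ * α⁻¹, ?_⟩
      rw [inv_div, div_inv_eq_mul] at h
      field_simp at h ⊢
      linear_combination h
    · have h3 := M.mul_mem h2' (M.inv_mem h1)
      rwa [_root_.mul_inv_rev, Symp.formTv_inv hf, Symp.formTv_inv hf, mul_assoc,
        ← mul_assoc (formTv f b β), Symp.formTv_mul hf, add_neg_cancel, formTv_scalar_zero hf, one_mul,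
        Symp.formTv_mul hf, ← sub_eq_add_neg] at h3

omit hX in
/-- A commuting pair with centres in a totally singular plane: a transvection. -/
theorem exists_transvection_singular {a b : ι → F} {α β : F} (he : formTv f a α * formTv f b β ∈ M)
    (hβ : β ≠ 0) (hqa : q a = 0) (ha0 : a ≠ 0) (hbn : b ∉ jspan δ ![a]) (hab : f a b = 0) (habd : f a (δ b) = 0) :
    ∃ w γ, q w = 0 ∧ w ≠ 0 ∧ γ ≠ 0 ∧ formTv f w γ ∈ M := by
  have C := S.cplx
  have hf := S.symp
  have h2 := two_ne S
  obtain ⟨c, hc, c1, c2⟩ := exists_dual S (jinv_jspan C ![a]) hbn (-1) 0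
  rw [S.polar_eq] at c1
  rw [S.polar_eq, f_dd S, neg_eq_zero, mul_eq_zero, or_iff_right (nu_ne S)] at c2
  have ac1 : f a (δ c) = 0 := by rw [← S.polar_eq]; exact hc a (mem_jspan ![a] 0)
  have ac2 : f a c = 0 := by rw [f_left S, hc (δ a) (map_mem_jspan ![a] 0)]; ring
  have hada : f a (δ a) = 0 := f_self S hqa
  have hca : f c a = 0 := by rw [hf.skew, ac2, neg_zero]
  have hcda : f c (δ a) = 0 := by rw [hf.skew, f_skewd S, ac1, neg_zero, neg_zero]
  have hba : f b a = 0 := by rw [hf.skew, hab, neg_zero]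
  have hbda : f b (δ a) = 0 := by rw [hf.skew, f_skewd S, habd, neg_zero, neg_zero]
  let η : (ι → F) →ₗ[F] (ι → F) :=
    { toFun := fun x => f x (δ a) • c - f x a • δ c - f x (δ c) • a + f x c • δ a
      map_add' := fun x z => by simp only [Symp.add_left hf]; module
      map_smul' := fun c x => by simp only [Symp.smul_left hf, RingHom.id_apply]; module }
  have hη : ∀ x, η x = f x (δ a) • c - f x a • δ c - f x (δ c) • a + f x c • δ a := fun x => rfl
  have ha1 : η a = 0 := by rw [hη, hada, hf.alternating, ac1, ac2]; simp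
  have hb1 : η b = a := by rw [hη, hbda, hba, c1, c2]; simp
  have hc1 : η c = (-f c (δ c)) • a := by rw [hη, hcda, hca, hf.alternating]; simp
  have hcomm : ∀ x, η (δ x) = δ (η x) := fun x => by
    rw [hη, hη, f_dd S, f_dd S, f_skewd S x a, f_skewd S x c, map_add, map_sub, map_sub, map_smul, map_smul,
      map_smul, map_smul, d_sq S, d_sq S]
    module
  have h3 : ∀ x, η (η (η x)) = 0 := fun x => by
    rw [hη x]
    simp only [map_add, map_sub, map_smul, hcomm, hc1, ha1, map_zero, smul_zero, add_zero, sub_zero]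
  have hskew : ∀ x z, f (η x) z = -f x (η z) := fun x z => by
    simp only [hη, sub_eq_add_neg, ← neg_smul, Symp.add_left hf, Symp.add_right hf, Symp.smul_left hf,
      Symp.smul_right hf]
    rw [hf.skew z (δ a), hf.skew z a, hf.skew z (δ c), hf.skew z c]
    ring
  obtain ⟨g₁, i₁, k₁, e₁⟩ := exists_exp S h3 hskew hcomm
  obtain ⟨g₂, i₂, k₂, e₂⟩ := exists_exp S (η := -η) (fun x => by simp [h3])
    (fun x z => by simp [Symp.neg_left hf, Symp.neg_right hf, hskew]) (fun x => by simp [hcomm])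
  have hg₁ := hU g₁ i₁ k₁
  have hg₂ := hU g₂ i₂ k₂
  set e := formTv f a α * formTv f b β with he'
  have key : ∀ (g : GL ι F), Symp.IsIsometry f g → g * e * g⁻¹ =
      formTv f ((g : Matrix ι ι F) *ᵥ a) α * formTv f ((g : Matrix ι ι F) *ᵥ b) β := fun g hg => by
    rw [he', ← Symp.conj_formTv hf hg, ← Symp.conj_formTv hf hg]
    group
  have a₁ : (g₁ : Matrix ι ι F) *ᵥ a = a := by rw [e₁, ha1, map_zero]; simp
  have a₂ : (g₂ : Matrix ι ι F) *ᵥ a = a := by rw [e₂]; simp [ha1]
  have b₁ : (g₁ : Matrix ι ι F) *ᵥ b = b + a := by rw [e₁, hb1, ha1]; simp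
  have b₂ : (g₂ : Matrix ι ι F) *ᵥ b = b + (-1 : F) • a := by rw [e₂]; simp [hb1, ha1]
  refine ⟨a, 2 * β, hqa, ha0, mul_ne_zero h2 hβ, ?_⟩
  have h4 := M.mul_mem (M.inv_mem (M.mul_mem he he))
    (M.mul_mem (M.mul_mem (M.mul_mem hg₁ he) (M.inv_mem hg₁)) (M.mul_mem (M.mul_mem hg₂ he) (M.inv_mem hg₂)))
  rw [key g₁ i₁, key g₂ i₂, a₁, a₂, b₁, b₂] at h4
  convert h4 using 1
  rw [eq_inv_mul_iff_mul_eq]
  refine gl_ext fun x => ?_
  simp only [he', gl_mul_mulVec, Symp.formTv_mulVec hf, Symp.add_left hf, Symp.add_right hf,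
    Symp.smul_left hf, Symp.smul_right hf, hf.alternating, hab, hba, mul_zero, add_zero, zero_add, zero_smul]
  match_scalars <;> ring

end

end CfsgLib.SympUnitLow
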