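import Cfsg.Agent.Lib.GeomClasses.OrthCplxField
import Cfsg.Agent.Lib.SympUnitLow.Three

/-!
The normaliser of a quadratic field which is closed under adjoints but not self-adjoint is maximal in the
symplectic group of dimension at least six in odd characteristic.
-/

set_option autoImplicit false
set_option linter.unusedSectionVars false

namespace CfsgLib.SympUnitLow

open Matrix QuadraticMap CfsgLib.GeomClasses
open CfsgLib.GeomClasses.OrthCplx (mem_span_one)
open scoped MatrixGroups

variable {F : Type*} [Field F] [Fintype F]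

theorem maximal_field_ge {m : ℕ} (hm : 3 ≤ m) (hodd : Odd (Fintype.card F))
    (K : Subalgebra F (Matrix (Fin m ⊕ Fin m) (Fin m ⊕ Fin m) F)) (hK : Cfsg.Geo.IsFieldSubalgebra 2 K)
    (hac : Cfsg.Geo.IsAdjointClosedFor (Cfsg.sympForm m F) K)
    (hnsa : ¬ Cfsg.Geo.IsSelfAdjointFor (Cfsg.sympForm m F) K) :
    Cfsg.Geo.IsMaximalIn (Cfsg.spGL m F) (Cfsg.Geo.subalgebraNormalizer K ⊓ Cfsg.spGL m F) := by
  classical
  have hn : Fintype.card (Fin m ⊕ Fin m) = 6 ∨ 8 ≤ Fintype.card (Fin m ⊕ Fin m) := by simp; omega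
  have hn6 : 6 ≤ Fintype.card (Fin m ⊕ Fin m) := by simp; omega
  haveI : Nonempty (Fin m ⊕ Fin m) := ⟨.inl ⟨0, by omega⟩⟩
  have h2 : (2 : F) ≠ 0 := fun h => by
    haveI : CharP F 2 := CharTwo.of_one_ne_zero_of_two_eq_zero one_ne_zero h
    have := FiniteField.even_card_of_char_two (ringChar.eq F 2)
    have := Nat.odd_iff.1 hodd
    omega
  have hf := Symp.isSymplecticForm_sympForm (F := F) m
  set f := Cfsg.sympForm m F with hfdef
  simp only [Cfsg.Geo.IsSelfAdjointFor, not_forall] at hnsa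
  obtain ⟨j, hj, u₁, v₁, huv₁⟩ := hnsa
  obtain ⟨j', hj', hjj'⟩ := hac j hj
  set d : Matrix (Fin m ⊕ Fin m) (Fin m ⊕ Fin m) F := j - j' with hd'
  have hdK : d ∈ K := K.sub_mem hj hj'
  have hadj' : ∀ x y, f (j' *ᵥ x) y = f x (j *ᵥ y) := fun x y => by
    rw [hf.skew (j' *ᵥ x), ← hjj', ← hf.skew]
  have hskew : ∀ x y, f (d *ᵥ x) y = -f x (d *ᵥ y) := fun x y => by
    rw [hd', Matrix.sub_mulVec, Matrix.sub_mulVec, Symp.sub_left hf, Symp.sub_right hf, hjj', hadj']
    ring
  have hd0 : ∃ x y, f x (d *ᵥ y) ≠ 0 :=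
    ⟨u₁, v₁, fun h => huv₁ (by
      rw [hd', Matrix.sub_mulVec, Symp.sub_right hf, sub_eq_zero] at h
      rw [hjj', ← h])⟩
  have hns : ∀ a : F, d ≠ a • 1 := fun a ha => by
    obtain ⟨x, y, hxy⟩ := hd0
    have h := hskew x y
    rw [ha, Matrix.smul_mulVec, Matrix.smul_mulVec, Matrix.one_mulVec, Matrix.one_mulVec, Symp.smul_left hf,
      Symp.smul_right hf] at h
    have h0 : 2 * (a * f x y) = 0 := by linear_combination h
    exact hxy (by
      rw [ha, Matrix.smul_mulVec, Matrix.one_mulVec, Symp.smul_right hf]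
      exact (mul_eq_zero.1 h0).resolve_left h2)
  obtain ⟨ν, b, hνb⟩ := mem_span_one hK hdK hns (K.mul_mem hdK hdK)
  have hdd : ∀ x, d *ᵥ (d *ᵥ x) = ν • x + b • (d *ᵥ x) := fun x => by
    rw [Matrix.mulVec_mulVec, hνb, Matrix.add_mulVec, Matrix.smul_mulVec, Matrix.smul_mulVec, Matrix.one_mulVec]
  have hb : b = 0 := by
    obtain ⟨x, y, hxy⟩ := hd0
    have h : f (d *ᵥ (d *ᵥ x)) y = f x (d *ᵥ (d *ᵥ y)) := by rw [hskew, hskew, neg_neg]
    rw [hdd, hdd, Symp.add_left hf, Symp.add_right hf, Symp.smul_left hf, Symp.smul_left hf, Symp.smul_right hf,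
      Symp.smul_right hf, hskew] at h
    have h0 : 2 * (b * f x (d *ᵥ y)) = 0 := by linear_combination -h
    exact (mul_eq_zero.1 ((mul_eq_zero.1 h0).resolve_left h2)).resolve_right hxy
  subst hb
  rw [zero_smul, add_zero] at hνb
  set δ := Matrix.toLin' d with hδ
  have hδa : ∀ x, δ x = d *ᵥ x := fun x => Matrix.toLin'_apply d x
  have hsq : ∀ x, δ (δ x) = ν • x := fun x => by rw [hδa, hδa, hdd, zero_smul, add_zero]
  have hnsq : ¬ IsSquare ν := by
    rintro ⟨s, hs⟩
    have hprod : (d - s • (1 : Matrix (Fin m ⊕ Fin m) (Fin m ⊕ Fin m) F)) * (d + s • 1) = 0 := by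
      rw [sub_mul, mul_add, mul_add, hνb, hs, Matrix.mul_smul, Matrix.smul_mul, Matrix.smul_mul,
        Matrix.mul_smul, mul_one, one_mul, one_mul, smul_smul]
      abel
    obtain ⟨z, hz, hz1⟩ := hK.inv _ (K.sub_mem hdK (K.smul_mem K.one_mem s)) (fun e => hns s (sub_eq_zero.1 e))
    have h3 := congrArg (z * ·) hprod
    rw [← mul_assoc, hK.comm z hz _ (K.sub_mem hdK (K.smul_mem K.one_mem s)), hz1, one_mul, mul_zero] at h3
    exact hns (-s) (by rw [neg_smul]; exact eq_neg_of_add_eq_zero_left h3)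
  have hνn : ν ≠ 0 := fun h => hnsq (h ▸ IsSquare.zero)
  have hskew' : ∀ x y, f (δ x) y = -f x (δ y) := fun x y => by rw [hδa, hδa, hskew]
  let B : LinearMap.BilinForm F (Fin m ⊕ Fin m → F) := (2 : F)⁻¹ • (Symp.bil hf).compl₂ δ
  set q : QuadraticForm F (Fin m ⊕ Fin m → F) := LinearMap.BilinMap.toQuadraticMap B with hqdef
  have hqv : ∀ x, q x = (2 : F)⁻¹ * f x (δ x) := fun x => rfl
  have hpol : ∀ x y, polar q x y = f x (δ y) := fun x y => by
    simp only [QuadraticMap.polar, hqv, map_add, Symp.add_left hf, Symp.add_right hf]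
    have e : f y (δ x) = f x (δ y) := by rw [hf.skew y, hskew', neg_neg]
    rw [e]
    field_simp
    ring
  have C : Cplx q δ 0 (-ν) :=
    { nondeg := by
        have key : ∀ x, (∀ y, polar q x y = 0) → x = 0 := fun x h => by
          by_contra hne
          obtain ⟨z, hz⟩ := (hf.nondegenerate x hne).1
          have h1 := h (ν⁻¹ • δ z)
          rw [hpol, map_smul, hsq, smul_smul, inv_mul_cancel₀ hνn, one_smul] at h1
          exact hz (by first | exact h1 | (rw [hf.skew, h1, neg_zero]))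
        exact ⟨fun x h => key x h, fun x h => key x fun y => (polar_comm (⇑q) x y).trans (h y)⟩
      card := by simp; omega
      sq := fun x => by rw [hsq]; simp
      adj := fun x y => by rw [hpol, hpol, hpol, hskew']; ring
      qJ := fun x => by rw [hqv, hqv, hsq, hskew', map_smul, Symp.smul_right hf]; ring
      self_J := fun x => by rw [hpol, hsq, Symp.smul_right hf, hf.alternating]; ring
      irred := fun a c h => by
        have hc : c = 0 := by
          by_contra hc
          exact hnsq ⟨a / c, by field_simp; linear_combination -h⟩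
        subst hc
        exact ⟨mul_self_eq_zero.1 (by linear_combination h), rfl⟩ }
  have S : Setup f q δ ν := ⟨hf, C, hpol, hnsq⟩
  -- elements commuting with `δ` normalise `K`
  have hmem : ∀ g : GL (Fin m ⊕ Fin m) F, (∀ x, (g : Matrix _ _ F) *ᵥ δ x = δ ((g : Matrix _ _ F) *ᵥ x)) →
      g ∈ Cfsg.Geo.subalgebraNormalizer K := by
    intro g hg
    have hcj : (g : Matrix _ _ F) * d = d * (g : Matrix _ _ F) :=
      Matrix.toLin'.injective (LinearMap.ext fun x => by
        rw [Matrix.toLin'_mul, Matrix.toLin'_mul]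
        simpa [hδa] using hg x)
    have hck : ∀ k ∈ K, (g : Matrix _ _ F) * k = k * (g : Matrix _ _ F) := by
      intro k hk
      obtain ⟨a, c, rfl⟩ := mem_span_one hK hdK hns hk
      rw [mul_add, add_mul, Matrix.mul_smul, Matrix.mul_smul, Matrix.smul_mul, Matrix.smul_mul, hcj, mul_one,
        one_mul]
    refine fun k => ⟨fun hk => ?_, fun (hk : _ * k * _ ∈ K) => ?_⟩
    · rw [hck k hk, mul_assoc, ← Units.val_mul, mul_inv_cancel, Units.val_one, mul_one]
      exact hk
    have h := hck _ hk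
    rw [Units.inv_mul_cancel_right] at h
    have h4 : (g : Matrix _ _ F) * k * ((g⁻¹ : GL (Fin m ⊕ Fin m) F) : Matrix _ _ F) = k :=
      g.isUnit.mul_left_cancel h
    rwa [h4] at hk
  refine ⟨lt_of_le_of_ne inf_le_right fun he => ?_, fun M hle hMI => ?_⟩
  · -- properness
    obtain ⟨x₀, hx₀⟩ := exists_ne (0 : Fin m ⊕ Fin m → F)
    obtain ⟨u, hu, -, hxu, -⟩ := exists_iso S (W := ⊥) (x := x₀)
      (fun z hz => by rw [(Submodule.mem_bot F).1 hz, map_zero]; exact Submodule.zero_mem _)
      (by simpa using hx₀) (small_bot S) 0 1 0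
    have hu0 : u ≠ 0 := fun e => one_ne_zero (α := F) (by rw [← hxu, e, Symp.zero_right hf])
    obtain ⟨x, hx⟩ := (hf.nondegenerate u hu0).2
    set g := formTv f u 1 with hg
    have hgI : g ∈ Cfsg.spGL m F := Symp.formTv_mem_spGL m u 1
    have hgN := (he.ge hgI).1
    obtain ⟨a, c, hac'⟩ := mem_span_one hK hdK hns ((hgN d).1 hdK)
    have key : ∀ z, (g : Matrix _ _ F) *ᵥ δ z = a • ((g : Matrix _ _ F) *ᵥ z) + c • δ ((g : Matrix _ _ F) *ᵥ z) :=
      fun z => by
        have h := congrArg (fun y => y *ᵥ ((g : Matrix _ _ F) *ᵥ z)) hac'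
        simp only [← Matrix.mulVec_mulVec, Matrix.add_mulVec, Matrix.smul_mulVec, Matrix.one_mulVec] at h
        rw [gl_inv_mulVec_mulVec] at h
        rw [hδa, h, hδa]
    have hgx : ∀ z, (g : Matrix _ _ F) *ᵥ z = z + f z u • u := fun z => by
      rw [hg, Symp.formTv_mulVec hf, one_mul]
    have k1 := key u
    rw [hgx, hgx, hf.alternating, f_self' S hu, zero_smul, add_zero, add_zero] at k1
    obtain ⟨ea, ec⟩ := indep_zero C hu0 (a := a) (b := c - 1) (by linear_combination (norm := module) -k1)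
    have k2 := key x
    rw [hgx, hgx, ea, sub_eq_zero.1 ec, zero_smul, zero_add, one_smul, map_add, map_smul] at k2
    have h := (indep_zero C hu0 (a := f (δ x) u) (b := -f x u) (by linear_combination (norm := module) k2)).2
    exact hx (by first | exact neg_eq_zero.1 h | (rw [hf.skew]; exact h))
  · by_cases hall : M ≤ Cfsg.Geo.subalgebraNormalizer K
    · exact Or.inl (le_antisymm (le_inf hall hMI) hle)
    right
    have hX : ∀ v k, q v = 0 → rootU f δ ν v k ∈ M := fun v k hv =>
      hle ⟨hmem _ (rootU_comm S hv k), rootU_isometry S v k⟩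
    obtain ⟨g, hgM, hg⟩ := SetLike.not_le_iff_exists.1 hall
    refine Symp.eq_spGL_of_centres hMI ?_
    suffices hex : ∃ v, q v = 0 ∧ (g : Matrix (Fin m ⊕ Fin m) (Fin m ⊕ Fin m) F) *ᵥ δ v ∉ jspan δ ![(g : Matrix (Fin m ⊕ Fin m) (Fin m ⊕ Fin m) F) *ᵥ v] by
      obtain ⟨v, hv, hnot⟩ := hex
      have hgi : Symp.IsIsometry f g := hMI hgM
      have hfam : ∀ v, q v = 0 → formTv f ((g : Matrix (Fin m ⊕ Fin m) (Fin m ⊕ Fin m) F) *ᵥ δ v) 1 *
          formTv f ((g : Matrix (Fin m ⊕ Fin m) (Fin m ⊕ Fin m) F) *ᵥ v) (-(ν * 1)) ∈ M := fun v hv => by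
        rw [← Symp.conj_formTv hf hgi, ← Symp.conj_formTv hf hgi, conj_mul]
        exact M.mul_mem (M.mul_mem hgM (hX v 1 hv)) (M.inv_mem hgM)
      have hU : ∀ u : GL (Fin m ⊕ Fin m) F, Symp.IsIsometry f u →
          (∀ x, (u : Matrix _ _ F) *ᵥ δ x = δ ((u : Matrix _ _ F) *ᵥ x)) → u ∈ M := fun u hi hc =>
        hle ⟨hmem _ hc, hi⟩
      have hC1 : ∀ μ : F, (1 : F) * (μ * μ) + -(ν * 1) ≠ 0 := fun μ e => hnsq ⟨μ, by linear_combination -e⟩
      have hC2 : ∀ μ : F, -(ν * 1) * (μ * μ) + 1 ≠ 0 := fun μ e => by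
        have hμ : μ ≠ 0 := fun h0 => by rw [h0] at e; simp at e
        exact hnsq ⟨μ⁻¹, by field_simp; linear_combination -e⟩
      have hswap : ∀ v, q v = 0 → formTv f ((g : Matrix (Fin m ⊕ Fin m) (Fin m ⊕ Fin m) F) *ᵥ v) (-(ν * 1)) *
          formTv f ((g : Matrix (Fin m ⊕ Fin m) (Fin m ⊕ Fin m) F) *ᵥ δ v) 1 ∈ M := fun v hv => by
        have h0 : f ((g : Matrix (Fin m ⊕ Fin m) (Fin m ⊕ Fin m) F) *ᵥ δ v) ((g : Matrix (Fin m ⊕ Fin m) (Fin m ⊕ Fin m) F) *ᵥ v) = 0 := by rw [hgi, f_self' S hv]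
        convert hfam v hv using 1
        refine gl_ext fun z => ?_
        simp only [gl_mul_mulVec, Symp.formTv_mulVec hf, Symp.add_left hf, Symp.smul_left hf, h0,
          hf.skew ((g : Matrix (Fin m ⊕ Fin m) (Fin m ⊕ Fin m) F) *ᵥ v), neg_zero, mul_zero, add_zero]
        module
      obtain ⟨w, γ, hqw, hw0, hγ, hT⟩ : ∃ w γ, q w = 0 ∧ w ≠ 0 ∧ γ ≠ 0 ∧ formTv f w γ ∈ M := by
        set a := (g : Matrix (Fin m ⊕ Fin m) (Fin m ⊕ Fin m) F) *ᵥ δ v with ha'
        set b := (g : Matrix (Fin m ⊕ Fin m) (Fin m ⊕ Fin m) F) *ᵥ v with hb'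
        have hab : f a b = 0 := by rw [hgi, f_self' S hv]
        by_cases hb : q b = 0
        · have hv0 : v ≠ 0 := fun e => hnot (by rw [ha', e, map_zero, mulVec_zero]; exact Submodule.zero_mem _)
          have hb0 : b ≠ 0 := fun e => hv0 (gl_mulVec_injective g
            (show (g : Matrix (Fin m ⊕ Fin m) (Fin m ⊕ Fin m) F) *ᵥ v = (g : Matrix (Fin m ⊕ Fin m) (Fin m ⊕ Fin m) F) *ᵥ 0 by rw [← hb', e, mulVec_zero]))
          have hba : b ∉ jspan δ ![a] := by
            intro hin
            by_cases haz : a = 0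
            · exact hnot (by rw [haz]; exact Submodule.zero_mem _)
            obtain ⟨c, d, hcd⟩ := mem_one S hin
            have h1 : c • a + d • δ a ∈ jspan δ ![b] := by rw [hcd]; exact mem_jspan ![b] 0
            obtain ⟨rfl, rfl⟩ := coeff_zero C (jinv_jspan C ![b]) hnot h1
            exact hb0 (by rw [← hcd]; simp)
          have haz0 : a ≠ 0 := fun e => hnot (by rw [e]; exact Submodule.zero_mem _)
          by_cases ha : q a = 0
          · -- both singular: rotate inside the plane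
            by_cases hp : polar q a b = 0
            · rw [S.polar_eq] at hp
              exact exists_transvection_singular S hU (hfam v hv) (by simpa using hνn) ha haz0 hba hab hp
            have hv' : q (v + δ v) = 0 := by
              rw [QuadraticMap.map_add ⇑q, hv, q_d S hv, (self_polar S hv).2.2.1]; simp
            have ea : (g : Matrix (Fin m ⊕ Fin m) (Fin m ⊕ Fin m) F) *ᵥ δ (v + δ v) = a + ν • b := by
              rw [map_add, hsq, mulVec_add, mulVec_smul]
            have eb : (g : Matrix (Fin m ⊕ Fin m) (Fin m ⊕ Fin m) F) *ᵥ (v + δ v) = b + a := by rw [mulVec_add]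
            have he := hfam _ hv'
            rw [ea, eb] at he
            refine exists_transvection_six S hX hU hn6 he ?_ one_ne_zero hC1 ?_ ?_
            · rw [Symp.add_left hf, Symp.add_right hf, Symp.add_right hf, Symp.smul_left hf, Symp.smul_left hf,
                hab, hf.skew b a, hab, hf.alternating, hf.alternating]
              simp
            · intro hin
              have hne : b + a ∉ jspan δ ![b] := fun h => hnot (by
                simpa using Submodule.sub_mem _ h (mem_jspan ![b] 0))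
              obtain ⟨c, d, hcd⟩ := mem_one S hin
              have h1 : (c - 1) • (b + a) + d • δ (b + a) ∈ jspan δ ![b] := by
                rw [show (c - 1) • (b + a) + d • δ (b + a) = (c • (b + a) + d • δ (b + a)) - (b + a) by module,
                  hcd, show a + ν • b - (b + a) = (ν - 1) • b by module]
                exact Submodule.smul_mem _ _ (mem_jspan ![b] 0)
              obtain ⟨e1, e2⟩ := coeff_zero C (jinv_jspan C ![b]) hne h1
              rw [sub_eq_zero.1 e1, e2, one_smul, zero_smul, add_zero] at hcd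
              exact hb0 ((smul_eq_zero.1 (show (ν - 1) • b = 0 by
                linear_combination (norm := module) -hcd)).resolve_left
                  (sub_ne_zero.2 fun e => hnsq (e ▸ IsSquare.one)))
            · rw [QuadraticMap.map_add ⇑q, hb, ha, polar_comm]
              simpa using hp
          · exact exists_transvection_six S hX hU hn6 (hswap v hv) (by rw [hgi, f_self S hv]) (by simpa using hνn)
              hC2 hba ha
        · exact exists_transvection_six S hX hU hn6 (hfam v hv) hab one_ne_zero hC1 hnot hb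
      exact all_centres_of_transvection S hX (sep_low S hn) hqw hw0 hγ hT
    by_contra hcon
    push Not at hcon
    apply hg
    set A : (Fin m ⊕ Fin m → F) →ₗ[F] (Fin m ⊕ Fin m → F) :=
      Matrix.toLin' ((g⁻¹ : GL (Fin m ⊕ Fin m) F) : Matrix _ _ F) ∘ₗ δ ∘ₗ Matrix.toLin' (g : Matrix _ _ F) with hA
    have hAapp : ∀ z, A z = ((g⁻¹ : GL (Fin m ⊕ Fin m) F) : Matrix _ _ F) *ᵥ δ ((g : Matrix _ _ F) *ᵥ z) :=
      fun z => by simp [hA]
    have hAv : ∀ v, q v = 0 → ∃ a c : F, A v = a • v + c • δ v := fun v hv => by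
      obtain ⟨e, he⟩ := (Submodule.mem_span_range_iff_exists_fun F).1 (hcon v hv)
      simp only [Fintype.sum_sum_type, Fin.sum_univ_one, Sum.elim_inl, Sum.elim_inr, Matrix.cons_val_zero] at he
      rcases eq_or_ne (e (.inr 0)) 0 with h0 | h0
      · rcases eq_or_ne v 0 with rfl | hv0
        · exact ⟨0, 0, by simp⟩
        rw [h0, zero_smul, add_zero, ← mulVec_smul] at he
        have := gl_mulVec_injective g he
        exact absurd (indep_zero C hv0 (a := e (.inl 0)) (b := -1)
          (by linear_combination (norm := module) this)).2 (by simp)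
      · refine ⟨-(e (.inl 0) / e (.inr 0)), (e (.inr 0))⁻¹, ?_⟩
        have h := congrArg (fun y : Fin m ⊕ Fin m → F =>
          ((g⁻¹ : GL (Fin m ⊕ Fin m) F) : Matrix (Fin m ⊕ Fin m) (Fin m ⊕ Fin m) F) *ᵥ y) he
        simp only [mulVec_add, mulVec_smul, gl_inv_mulVec_mulVec, ← hAapp] at h
        rw [show A v = (e (.inr 0))⁻¹ • (e (.inr 0) • A v) by rw [inv_smul_smul₀ h0],
          eq_sub_of_add_eq' h]
        match_scalars <;> field_simp
    obtain ⟨x₀, hx₀⟩ := exists_ne (0 : Fin m ⊕ Fin m → F)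
    obtain ⟨u₀, hqu₀, -, hxu, -⟩ := exists_iso S (W := ⊥) (x := x₀)
      (fun z hz => by rw [(Submodule.mem_bot F).1 hz, map_zero]; exact Submodule.zero_mem _)
      (by simpa using hx₀) (small_bot S) 0 1 0
    have hu₀0 : u₀ ≠ 0 := fun e => one_ne_zero (α := F) (by rw [← hxu, e, Symp.zero_right hf])
    obtain ⟨a, c, hac'⟩ := hAv u₀ hqu₀
    have hconst : ∀ x y, q x = 0 → q y = 0 → polar q x y = 0 → x ≠ 0 → y ∉ jspan δ ![x] →
        ∀ r s r' s' : F, A x = r • x + s • δ x → A y = r' • y + s' • δ y → r = r' ∧ s = s' := by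
      intro x y hx hy hxy hx0 hy1 r s r' s' e e'
      obtain ⟨r'', s'', e''⟩ := hAv (x + y) (by rw [QuadraticMap.map_add ⇑q, hx, hy, hxy]; simp)
      rw [map_add, e, e', map_add] at e''
      have hyz : (r' - r'') • y + (s' - s'') • δ y = (r'' - r) • x + (s'' - s) • δ x := by
        linear_combination (norm := module) e''
      obtain ⟨f1, f2⟩ := coeff_zero C (jinv_jspan C ![x]) hy1 (a := r' - r'') (b := s' - s'') (by
        rw [hyz]
        exact Submodule.add_mem _ (Submodule.smul_mem _ _ (mem_jspan ![x] 0))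
          (Submodule.smul_mem _ _ (map_mem_jspan ![x] 0)))
      rw [f1, f2, zero_smul, zero_smul, add_zero] at hyz
      obtain ⟨g1, g2⟩ := indep_zero C hx0 hyz.symm
      exact ⟨by linear_combination -g1 - f1, by linear_combination -g2 - f2⟩
    have hlink : ∀ x y, q x = 0 → q y = 0 → x ≠ 0 → y ∉ jspan δ ![x] →
        ∀ r s r' s' : F, A x = r • x + s • δ x → A y = r' • y + s' • δ y → r = r' ∧ s = s' := by
      intro x y hx hy hx0 hyx r s r' s' e e'
      have hxy : x ∉ jspan δ ![y] := by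
        intro hin
        obtain ⟨k, l, hkl⟩ := mem_one S hin
        have h1 : k • y + l • δ y ∈ jspan δ ![x] := by rw [hkl]; exact mem_jspan ![x] 0
        obtain ⟨rfl, rfl⟩ := coeff_zero C (jinv_jspan C ![x]) hyx h1
        exact hx0 (by rw [← hkl]; simp)
      obtain ⟨d₁, hd₁, d₁x, d₁x'⟩ := exists_dual S (jinv_jspan C ![y]) hxy 0 1
      obtain ⟨d₂, hd₂, d₂y, d₂y'⟩ := exists_dual S (jinv_jspan C ![x]) hyx 0 1
      obtain ⟨z, hqz, hz⟩ := exists_singular_eq' S (jinv_sup (jinv_jspan C ![x]) (jinv_jspan C ![y]))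
        (sep_low S hn x y hx hy hyx hx0) (d₁ + d₂)
      have z1 : polar q x z = 0 := by
        rw [hz _ (Submodule.mem_sup_left (mem_jspan ![x] 0) : x ∈ _), polar_add_right, d₁x,
          hd₂ x (mem_jspan ![x] 0), add_zero]
      have z2 : polar q (δ x) z = 1 := by
        rw [hz _ (Submodule.mem_sup_left (map_mem_jspan ![x] 0) : δ x ∈ _), polar_add_right, d₁x',
          hd₂ (δ x) (map_mem_jspan ![x] 0), add_zero]
      have z3 : polar q y z = 0 := by
        rw [hz _ (Submodule.mem_sup_right (mem_jspan ![y] 0) : y ∈ _), polar_add_right, d₂y,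
          hd₁ y (mem_jspan ![y] 0), zero_add]
      have z4 : polar q (δ y) z = 1 := by
        rw [hz _ (Submodule.mem_sup_right (map_mem_jspan ![y] 0) : δ y ∈ _), polar_add_right, d₂y',
          hd₁ (δ y) (map_mem_jspan ![y] 0), zero_add]
      have out : ∀ {x}, q x = 0 → polar q (δ x) z = 1 → z ∉ jspan δ ![x] := fun {x} hx h1 hin => by
        obtain ⟨k, l, rfl⟩ := mem_one S hin
        obtain ⟨-, p2, -, p4⟩ := self_polar S hx
        simp [polar_add_right, polar_smul_right, p2, p4] at h1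
      obtain ⟨rz, sz, ez⟩ := hAv z hqz
      obtain ⟨c1, c2⟩ := hconst x z hx hqz z1 hx0 (out hx z2) r s rz sz e ez
      obtain ⟨c3, c4⟩ := hconst y z hy hqz z3 (fun h0 => hyx (by rw [h0]; exact Submodule.zero_mem _))
        (out hy z4) r' s' rz sz e' ez
      exact ⟨c1.trans c3.symm, c2.trans c4.symm⟩
    have hsing : ∀ w, q w = 0 → A w = a • w + c • δ w := by
      intro w hw
      rcases eq_or_ne w 0 with rfl | hw0
      · simp
      obtain ⟨r', s', hrs'⟩ := hAv w hw
      by_cases hwu : w ∈ jspan δ ![u₀]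
      · obtain ⟨z, hqz, -, huz, -⟩ := exists_iso S (W := ⊥) (x := u₀)
          (fun z hz => by rw [(Submodule.mem_bot F).1 hz, map_zero]; exact Submodule.zero_mem _)
          (by simpa using hu₀0) (small_bot S) 0 1 0
        have hzu : z ∉ jspan δ ![u₀] := fun h => by
          obtain ⟨k, l, rfl⟩ := mem_one S h
          rw [Symp.add_right hf, Symp.smul_right hf, Symp.smul_right hf, hf.alternating, f_self S hqu₀] at huz
          simp at huz
        have hzw : z ∉ jspan δ ![w] := fun h => hzu (jspan_le S (jinv_jspan C ![u₀]) hwu h)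
        obtain ⟨r, s, hrs⟩ := hAv z hqz
        obtain ⟨c1, c2⟩ := hlink u₀ z hqu₀ hqz hu₀0 hzu a c r s hac' hrs
        obtain ⟨c3, c4⟩ := hlink w z hw hqz hw0 hzw r' s' r s hrs' hrs
        rw [hrs', c3, c4, c1, c2]
      · obtain ⟨c1, c2⟩ := hlink u₀ w hqu₀ hw hu₀0 hwu a c r' s' hac' hrs'
        rw [hrs', c1, c2]
    have hallx : ∀ x, A x = a • x + c • δ x := by
      intro x
      rcases eq_or_ne x 0 with rfl | hx0
      · simp
      obtain ⟨v₀, -, hv₀⟩ := exists_pairing C (S := ⊥) (x := x) (by simpa using hx0)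
      obtain ⟨y, hy, hyeq⟩ := exists_singular_eq C (jinv_jspan C ![x]) (orth_not_le C (by have := finrank_jspan (J := δ) ![x]; omega)) v₀
      have hxy : polar q x y ≠ 0 := fun e => hv₀ ((hyeq x (mem_jspan ![x] 0)).symm.trans e)
      set t := -q x / polar q x y with ht
      have h1 : q (x + t • y) = 0 := by
        rw [QuadraticMap.map_add ⇑q, QuadraticMap.map_smul, polar_smul_right, hy, ht]
        simp [div_mul_cancel₀ _ hxy]
      have := hsing _ h1
      rw [map_add, map_smul, hsing y hy, map_add, map_smul] at this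
      linear_combination (norm := module) this
    have hgd : ((g⁻¹ : GL (Fin m ⊕ Fin m) F) : Matrix _ _ F) * d * (g : Matrix _ _ F) = a • 1 + c • d :=
      Matrix.toLin'.injective (LinearMap.ext fun x => by
        simp only [map_add, map_smul, Matrix.toLin'_mul, Matrix.toLin'_one, LinearMap.add_apply,
          LinearMap.smul_apply, LinearMap.id_apply]
        exact hallx x)
    have hc0 : c ≠ 0 := by
      rintro rfl
      refine hns a ?_
      have h := congrArg (fun z => (g : Matrix _ _ F) * z * ((g⁻¹ : GL (Fin m ⊕ Fin m) F) : Matrix _ _ F)) hgd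
      simpa [mul_assoc] using h
    have hdg : (g : Matrix _ _ F) * d * ((g⁻¹ : GL (Fin m ⊕ Fin m) F) : Matrix _ _ F) =
        c⁻¹ • (d - a • 1) := by
      have h := congrArg (fun z => (g : Matrix _ _ F) * z * ((g⁻¹ : GL (Fin m ⊕ Fin m) F) : Matrix _ _ F)) hgd
      simp only [mul_add, add_mul, Matrix.mul_smul, Matrix.smul_mul, mul_one, mul_assoc, ← Units.val_mul,
        mul_inv_cancel, Units.val_one] at h
      rw [← mul_assoc, ← Units.val_mul, mul_inv_cancel, Units.val_one, one_mul, ← mul_assoc] at h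
      rw [eq_inv_smul_iff₀ hc0]
      exact eq_sub_of_add_eq' h.symm
    refine fun k => ⟨fun hk => ?_, fun hk => ?_⟩
    · obtain ⟨p, r, rfl⟩ := mem_span_one hK hdK hns hk
      rw [mul_add, add_mul, Matrix.mul_smul, Matrix.mul_smul, Matrix.smul_mul, Matrix.smul_mul, mul_one, hdg,
        ← Units.val_mul, mul_inv_cancel, Units.val_one]
      exact K.add_mem (K.smul_mem K.one_mem _)
        (K.smul_mem (K.smul_mem (K.sub_mem hdK (K.smul_mem K.one_mem _)) _) _)
    · obtain ⟨p, r, hpr⟩ := mem_span_one hK hdK hns hk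
      have h := congrArg (fun z => ((g⁻¹ : GL (Fin m ⊕ Fin m) F) : Matrix _ _ F) * z * (g : Matrix _ _ F)) hpr
      simp only [mul_add, add_mul, Matrix.mul_smul, Matrix.smul_mul, mul_one, ← mul_assoc, ← Units.val_mul,
        inv_mul_cancel, Units.val_one, one_mul] at h
      rw [hgd, mul_assoc, ← Units.val_mul, inv_mul_cancel, Units.val_one, mul_one] at h
      rw [h]
      exact K.add_mem (K.smul_mem K.one_mem _)
        (K.smul_mem (K.add_mem (K.smul_mem K.one_mem _) (K.smul_mem hdK _)) _)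

theorem maximal_field_six {m : ℕ} (hm : m = 3) (hodd : Odd (Fintype.card F))
    (K : Subalgebra F (Matrix (Fin m ⊕ Fin m) (Fin m ⊕ Fin m) F)) (hK : Cfsg.Geo.IsFieldSubalgebra 2 K)
    (hac : Cfsg.Geo.IsAdjointClosedFor (Cfsg.sympForm m F) K)
    (hnsa : ¬ Cfsg.Geo.IsSelfAdjointFor (Cfsg.sympForm m F) K) :
    Cfsg.Geo.IsMaximalIn (Cfsg.spGL m F) (Cfsg.Geo.subalgebraNormalizer K ⊓ Cfsg.spGL m F) :=
  maximal_field_ge hm.ge hodd K hK hac hnsa

end CfsgLib.SympUnitLow
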